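import Cfsg.Agent.H759.TwF.Main
import Cfsg.Agent.PreUniq.LowExc.Index
import Cfsg.Agent.H565.TwF4Rank
import Cfsg.Agent.FastGrp
import Cfsg.Agent.Prune
set_option linter.all false
prune_inst 0x7f00000000000000000000000000000000000000000000000000000000000000000000000000000000000000000000000000000000000000000000000000000000000000000000000000000000000000003fffffffffffffffffffffffffffbeffbdffffffff
open scoped Cfsg.Agent.FastGrp

/-!
# S3849, `²F₄(q)`: facts on the tori (helper893)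

`G = ²F₄(q)`, `t ≥ 5` a prime divisor of the order of a torus `a : Fin 7` (`H759.TwF.NN`).

* `exists_Q` : no element of prime order `s` centralises the `t`-torsion of a torus of order prime to `s`;
* `pRankLE_pair`, `prankLE` : the `t`-rank is at most 2 if `a < 4`;
* `exists_sig` : `a = 1` (`t ∣ q + 1`) : the torus `T` of order `(q + 1)²` and a `3`-element `x` normalising `T` with
  `C_T(x)` a `3`-group.
-/

set_option autoImplicit false
set_option linter.unusedSectionVars false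

namespace Cfsg.Agent.H893.RM.TwT

open CoxeterSystem Cfsg Cfsg.Lie Cfsg.Lie.ChevalleyDatum
open Cfsg.Agent.ChevalleyStructure Cfsg.Agent.ChevalleyStructure.Elts Cfsg.Agent.ChevalleyStructure.CoxeterGeom
  Cfsg.Agent.ChevalleyStructure.CoxeterGeomTypes Cfsg.Agent.ChevalleyStructure.NPerm
  Cfsg.Agent.ChevalleyStructure.RootVec
open Cfsg.Agent.Tits.Roots Cfsg.Agent.Tits.Core Cfsg.Agent.Nodes Cfsg.Agent.Nodes.Reps Cfsg.Agent.Nodes.BNOf
  Cfsg.Agent.Nodes.RGDChev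
open Cfsg.Agent.KFacts.RgdField Cfsg.Agent.KFacts.RgdChevCoord Cfsg.Agent.BpExc.TorCent Cfsg.Agent.BpExc.TorChev
open Cfsg.Agent.GpExc.Field Cfsg.Agent.BpExc.Tow Cfsg.Agent.BpExc.TowChev
  Cfsg.Agent.BpExc.LangFr Cfsg.Agent.BpExc Cfsg.Agent.H129.TorusChar Cfsg.Agent.H129.TorusUntw
open Cfsg.Agent.H493.F4End Cfsg.Agent.H493.F4Tor Cfsg.Agent.H129.WData
open Cfsg.Agent.H630.NH Cfsg.Agent.H630.Exc Cfsg.Agent.H759.TwF

universe u v

/-! ### two independent elements of order `N` -/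

theorem card_tors_le {C : Type*} [Group C] [Finite C] [IsCyclic C] {p : ℕ} (hp : 0 < p) :
    Nat.card {x : C // x ^ p = 1} ≤ p := by
  classical
  have : Fintype C := Fintype.ofFinite C
  have h1 := IsCyclic.card_pow_eq_one_le (α := C) hp
  rw [Nat.card_eq_fintype_card, Fintype.card_subtype]
  exact h1

theorem pRankLE_pair {G : Type*} [Group G] [Finite G] {a b : G} (hab : a * b = b * a) {N : ℕ}
    (ha : a ^ N = 1) (h : ∀ i j : ℤ, a ^ i = b ^ j → (N : ℤ) ∣ i) (h' : ∀ i : ℕ, b ^ i = 1 → N ∣ i)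
    {p : ℕ} (hp : p.Prime) (hidx : ∀ T : Subgroup G, N ^ 2 ∣ Nat.card T → ¬ p ∣ T.index) : PRankLE p 2 G := by
  have hcomm : ∀ (x : Subgroup.zpowers a) (y : Subgroup.zpowers b), Commute (x : G) (y : G) := by
    rintro ⟨x, hx⟩ ⟨y, hy⟩
    obtain ⟨i, rfl⟩ := Subgroup.mem_zpowers_iff.1 hx
    obtain ⟨j, rfl⟩ := Subgroup.mem_zpowers_iff.1 hy
    exact ((show Commute a b from hab).zpow_zpow i j)
  let f : ↥(Subgroup.zpowers a) × ↥(Subgroup.zpowers b) →* G :=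
    MonoidHom.noncommCoprod (Subgroup.zpowers a).subtype (Subgroup.zpowers b).subtype hcomm
  have hf : Function.Injective f := by
    rw [injective_iff_map_eq_one]
    rintro ⟨⟨x, hx⟩, ⟨y, hy⟩⟩ hxy
    obtain ⟨i, rfl⟩ := Subgroup.mem_zpowers_iff.1 hx
    obtain ⟨j, rfl⟩ := Subgroup.mem_zpowers_iff.1 hy
    have h1 : a ^ i * b ^ j = 1 := hxy
    have h2 : a ^ i = b ^ (-j) := by rw [zpow_neg]; exact eq_inv_of_mul_eq_one_left h1
    obtain ⟨c, hc⟩ := h _ _ h2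
    have h3 : a ^ i = 1 := by rw [hc, zpow_mul, zpow_natCast, ha, one_zpow]
    have h4 : b ^ j = 1 := by rwa [h3, one_mul] at h1
    exact Prod.ext (Subtype.ext h3) (Subtype.ext h4)
  have h1 : N ^ 2 ∣ Nat.card f.range := by
    rw [← Nat.card_congr (MonoidHom.ofInjective hf).toEquiv, Nat.card_prod, Nat.card_zpowers, Nat.card_zpowers, pow_two]
    refine mul_dvd_mul ?_ (h' _ (pow_orderOf_eq_one b))
    have h2 := h (orderOf a) 0 (by rw [zpow_natCast, pow_orderOf_eq_one, zpow_zero])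
    exact Int.natCast_dvd_natCast.1 h2
  refine Cfsg.Agent.PreUniq.LowExc.pRankLE_of_not_dvd hp (hidx _ h1) fun B hB hBe => ?_
  have hex : ∀ x : B, ∃ y : {x : Subgroup.zpowers a // x ^ p = 1} × {x : Subgroup.zpowers b // x ^ p = 1},
      f (y.1.1, y.2.1) = x := by
    intro x
    obtain ⟨⟨y1, y2⟩, hy⟩ := hB x.2
    have h2 : ((y1, y2) : ↥(Subgroup.zpowers a) × ↥(Subgroup.zpowers b)) ^ p = 1 := by
      apply hf
      rw [map_pow, hy, map_one]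
      exact hBe.2 x x.2
    exact ⟨(⟨y1, congrArg Prod.fst h2⟩, ⟨y2, congrArg Prod.snd h2⟩), hy⟩
  choose g hg using hex
  have hgi : Function.Injective g := fun x y hxy => by
    apply Subtype.ext
    rw [← hg x, ← hg y, hxy]
  have h3 := Nat.card_le_card_of_injective g hgi
  rw [Nat.card_prod] at h3
  refine h3.trans ?_
  rw [pow_two]
  exact Nat.mul_le_mul (card_tors_le hp.pos) (card_tors_le hp.pos)

section Fin

variable {K : Type u} [Field K] [Fintype K] {m : ℕ} (hK : Fintype.card K = 2 ^ (2 * m + 1))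

include hK

/-- **the torsion of the tori** -/
theorem exists_Q' {d : TD} (hd : OkT d) (hpos : 0 < pe (2 ^ m) d.N) {r s : ℕ} (hrp : r.Prime) (hsp : s.Prime)
    (hrs : r ≠ s) (hr2 : r ≠ 2) (h3 : d.me = 0 ∨ r ≠ 3) (hrN : (r : ℤ) ∣ pe (2 ^ m) d.N)
    (hsN : ¬ (s : ℤ) ∣ pe (2 ^ m) d.N) :
    ∃ Q : Subgroup ↥(twistedF4 K (2 ^ m)), (∀ x ∈ Q, x ^ r = 1) ∧ (∀ x ∈ Q, ∀ y ∈ Q, x * y = y * x) ∧
      ∀ y, orderOf y = s → ¬ ∀ x ∈ Q, x * y = y * x := by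
  classical
  have : Fact (Nat.Prime 2) := ⟨Nat.prime_two⟩
  have hc2 : CharP K 2 := F4Fixed.charP_two hK
  obtain ⟨p, e, hpF, hpc, hpk, he, hpe, hk⟩ := exists_closure hK
  have hp2 : p = 2 := CharP.eq K hpc hc2
  subst hp2
  let k := AlgebraicClosure K
  let f : K →+* k := algebraMap K k
  let cs := CoxeterMatrix.F₄.toCoxeterSystem
  have hW : Finite CoxeterMatrix.F₄.Group := H493.PGF4.finW
  have hN : NSys CoxeterMatrix.F₄ (TT chevF4 k) (nc hp k) := nsys_of_locFin hp cs hk 2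
  obtain ⟨n, hn⟩ := exists_rp cs hN (TD.w cs d)
  obtain ⟨z, hz⟩ := H493.F4Lang.lang_ste m n
  obtain ⟨N, hNe⟩ := Int.eq_ofNat_of_zero_le hpos.le
  have hroot := hroot (k := k) cs hd.1 hd.2.1 hd.2.2.2 hrp hr2 h3 hrN
  refine ⟨tXr hp (eF_injective (m := m) f) z r, fun x hx => hx.2, fun x hx y hy =>
    tX_comm hp (eF_injective f) z hx.1 hy.1, fun y hy hyc => ?_⟩
  have hcT := mem_torus hK f hk cs hn hz hrp hsp hrs hroot hy hyc
  have hcs : (z⁻¹ * eF m f y * z) ^ s = 1 := by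
    have h1 : (z⁻¹ * eF m f y * z) ^ s = z⁻¹ * eF m f y ^ s * z := by
      have h2 := conj_pow (i := s) (a := z⁻¹) (b := eF m f y)
      rwa [inv_inv] at h2
    rw [h1, ← map_pow, ← hy, pow_orderOf_eq_one, map_one, mul_one, inv_mul_cancel]
  have hcN := expo cs hd.1 hd.2.2.1 hNe.symm _ hcT ((tau_iff cs hk hn hcT).1 (tau hK f hz y))
  have hsN' : ¬ s ∣ N := fun h => hsN (by rw [hNe]; exact Int.natCast_dvd_natCast.2 h)
  have h1 : orderOf (z⁻¹ * eF m f y * z) ∣ 1 := by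
    have h2 := Nat.dvd_gcd (orderOf_dvd_of_pow_eq_one hcs) (orderOf_dvd_of_pow_eq_one hcN)
    rwa [((Nat.Prime.coprime_iff_not_dvd hsp).2 hsN').gcd_eq_one] at h2
  have h3 : z⁻¹ * eF m f y * z = 1 := orderOf_eq_one_iff.1 (Nat.dvd_one.1 h1)
  have h5 := eq_one_of_conj f h3
  rw [h5, orderOf_one] at hy
  exact hsp.one_lt.ne hy

theorem exists_Q {r s : ℕ} (a : Fin 7) (hrp : r.Prime) (hsp : s.Prime) (hrs : r ≠ s) (hr2 : r ≠ 2) (hr3 : r ≠ 3)
    (hrN : (r : ℤ) ∣ pe (2 ^ m) (NN a)) (hsN : ¬ (s : ℤ) ∣ pe (2 ^ m) (NN a)) :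
    ∃ Q : Subgroup ↥(twistedF4 K (2 ^ m)), (∀ x ∈ Q, x ^ r = 1) ∧ (∀ x ∈ Q, ∀ y ∈ Q, x * y = y * x) ∧
      ∀ y, orderOf y = s → ¬ ∀ x ∈ Q, x * y = y * x := by
  have hpos := NN_pos m a
  fin_cases a
  · exact exists_Q' hK okT_A hpos hrp hsp hrs hr2 (Or.inr hr3) hrN hsN
  · exact exists_Q' hK okT_B hpos hrp hsp hrs hr2 (Or.inr hr3) hrN hsN
  · exact exists_Q' hK okT_Cp hpos hrp hsp hrs hr2 (Or.inr hr3) hrN hsN
  · exact exists_Q' hK okT_Cm hpos hrp hsp hrs hr2 (Or.inr hr3) hrN hsN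
  · exact exists_Q' hK okT_D hpos hrp hsp hrs hr2 (Or.inr hr3) hrN hsN
  · exact exists_Q' hK okT_Ep hpos hrp hsp hrs hr2 (Or.inr hr3) hrN hsN
  · exact exists_Q' hK okT_Em hpos hrp hsp hrs hr2 (Or.inr hr3) hrN hsN

/-- the data of the torus, rank 2 -/
theorem exists_ab {d : TD} (hd : OkT d) {a : Fin 7} (ha : NN a = d.N) {c c' : Fin 4 → P} {U U' : Fin 4} {v v' : P}
    {κ E κ' E' : ℕ} (hO : OkO d c U v κ E) (hO' : OkO d c' U' v' κ' E') (hZ : OkZ d c' U) :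
    ∃ (x y : ↥(twistedF4 K (2 ^ m))) (N : ℕ), pe (2 ^ m) d.N = N ∧ x * y = y * x ∧ x ^ N = 1 ∧
      (∀ i j : ℤ, x ^ i = y ^ j → (N : ℤ) ∣ i) ∧ ∀ i : ℕ, y ^ i = 1 → N ∣ i := by
  classical
  have : Fact (Nat.Prime 2) := ⟨Nat.prime_two⟩
  have hc2 : CharP K 2 := F4Fixed.charP_two hK
  obtain ⟨p, e, hpF, hpc, hpk, he, hpe, hk⟩ := exists_closure hK
  have hp2 : p = 2 := CharP.eq K hpc hc2
  subst hp2
  let k := AlgebraicClosure K
  let f : K →+* k := algebraMap K k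
  let cs := CoxeterMatrix.F₄.toCoxeterSystem
  have hW : Finite CoxeterMatrix.F₄.Group := H493.PGF4.finW
  have hN : NSys CoxeterMatrix.F₄ (TT chevF4 k) (nc hp k) := nsys_of_locFin hp cs hk 2
  obtain ⟨n, hn⟩ := exists_rp cs hN (TD.w cs d)
  obtain ⟨z, hz⟩ := H493.F4Lang.lang_ste m n
  have hpos := NN_pos m a
  have hodd := odd_NN (2 ^ m) a
  obtain ⟨N, hNe⟩ := Int.eq_ofNat_of_zero_le hpos.le
  have hNk : (N : k) ≠ 0 := odd_cast hNe
  rw [ha] at hNe hodd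
  have key : ∀ {c : Fin 4 → P} {U : Fin 4} {v : P} {κ E : ℕ}, OkO d c U v κ E →
      IsCoprime (N : ℤ) (Lc (2 ^ m) d.Q c (sr U)) := by
    intro c U v κ E hO
    have h1 := pe_of_peq (2 ^ m) hO
    rw [pe_pa, pe_pm, pe_p4, pe_pmo] at h1
    rw [← hNe]
    refine coprime_pow (m := m) hodd (v := pe (2 ^ m) v) (k := κ) (E := E) ?_
    rw [Lc_apply, ← h1]
    simp only [Mh_sr, pe_pm]
  have h0 : Lc (2 ^ m) d.Q c' (sr U) = 0 := by
    have h1 := pe_of_peq (2 ^ m) hZ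
    rw [pe_p4, pe] at h1
    rw [Lc_apply, ← h1]
    simp only [Mh_sr, pe_pm]
  have hN0 : N ≠ 0 := by rintro rfl; exact hNk Nat.cast_zero
  have : NeZero (N : k) := ⟨hNk⟩
  obtain ⟨ζ, hζ⟩ := HasEnoughRootsOfUnity.exists_primitiveRoot k N
  obtain ⟨x, hx, hxN, hxc⟩ := exists_el hK f hk cs hn hz hζ hN0 (Lc (2 ^ m) d.Q c)
    (fun x => by rw [← hNe]; exact Lc_adapted cs hd.1 hd.2.1 _ c x)
  obtain ⟨y, hy, hyN, hyc⟩ := exists_el hK f hk cs hn hz hζ hN0 (Lc (2 ^ m) d.Q c')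
    (fun x => by rw [← hNe]; exact Lc_adapted cs hd.1 hd.2.1 _ c' x)
  refine ⟨x, y, N, hNe, tX_comm hp (eF_injective f) z hx hy, hxN, ?_, ?_⟩
  · intro i j h1
    have h2 := hxc i (sr U)
    rw [h1, hyc] at h2
    have h3 : ζ ^ (j * Lc (2 ^ m) d.Q c' (sr U)) = 1 := by rw [h0, mul_zero, zpow_zero]
    rw [h3] at h2
    exact (key hO).dvd_of_dvd_mul_right ((hζ.zpow_eq_one_iff_dvd _).1 h2.symm)
  · intro i hi
    have h1 : y ^ (i : ℤ) = 1 := by rw [zpow_natCast]; exact hi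
    have h2 := hyc i (sr U')
    rw [h1, map_one, mul_one, inv_mul_cancel, cX_one] at h2
    exact Int.natCast_dvd_natCast.1 ((key hO').dvd_of_dvd_mul_right ((hζ.zpow_eq_one_iff_dvd _).1 h2.symm))

theorem prankLE' {d : TD} (hd : OkT d) {a : Fin 7} (ha : NN a = d.N) (hrk : rk a = 2) {c c' : Fin 4 → P}
    {U U' : Fin 4} {v v' : P}
    {κ E κ' E' : ℕ} (hO : OkO d c U v κ E) (hO' : OkO d c' U' v' κ' E') (hZ : OkZ d c' U) {r : ℕ}
    (hr : r.Prime) (hr2 : r ≠ 2) (hr3 : r ≠ 3) (hrN : (r : ℤ) ∣ pe (2 ^ m) (NN a)) :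
    PRankLE r 2 ↥(twistedF4 K (2 ^ m)) := by
  have hfin : Finite ↥(twistedF4 K (2 ^ m)) := by
    have := F4Fixed.charP_two hK
    exact H42.Tw.finite_tw (K := K) (2 ^ m)
  obtain ⟨x, y, N, hNe, hxy, hxN, h1, h2⟩ := exists_ab hK hd ha hO hO' hZ
  refine pRankLE_pair hxy hxN h1 h2 hr fun T hT => ?_
  refine not_dvd_index hK hr hr2 hr3 hrN T ?_
  rw [hrk, ha, hNe]
  exact_mod_cast Int.natCast_dvd_natCast.2 hT

/-- **the ranks** -/
theorem prankLE {a : Fin 7} (ha : a = 0 ∨ a = 2 ∨ a = 3) {r : ℕ}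
    (hr : r.Prime) (hr2 : r ≠ 2) (hr3 : r ≠ 3) (hrN : (r : ℤ) ∣ pe (2 ^ m) (NN a)) :
    PRankLE r 2 ↥(twistedF4 K (2 ^ m)) := by
  rcases ha with rfl | rfl | rfl
  · exact prankLE' hK okT_A (a := 0) rfl rfl okO_A okO2_A okZ_A hr hr2 hr3 hrN
  · exact prankLE' hK okT_Cp (a := 2) rfl rfl okO_Cp okO2_Cp okZ_Cp hr hr2 hr3 hrN
  · exact prankLE' hK okT_Cm (a := 3) rfl rfl okO_Cm okO2_Cm okZ_Cm hr hr2 hr3 hrN

/-- **the torus of order `(q + 1)²`** -/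
theorem exists_sig : ∃ (T : Subgroup ↥(twistedF4 K (2 ^ m))) (x : ↥(twistedF4 K (2 ^ m))),
    (∀ a ∈ T, ∀ b ∈ T, a * b = b * a) ∧ pe (2 ^ m) (NN 1) ^ 2 ∣ ((Nat.card T : ℕ) : ℤ) ∧
    (∃ k, x ^ 3 ^ k = 1) ∧ (∀ y ∈ T, x * y * x⁻¹ ∈ T) ∧
    ∀ s : ℕ, s.Prime → s ≠ 3 → ∀ y ∈ T, y ^ s = 1 → x * y = y * x → y = 1 := by
  classical
  have : Fact (Nat.Prime 2) := ⟨Nat.prime_two⟩
  have hc2 : CharP K 2 := F4Fixed.charP_two hK
  obtain ⟨p, e, hpF, hpc, hpk, he, hpe, hk⟩ := exists_closure hK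
  have hp2 : p = 2 := CharP.eq K hpc hc2
  subst hp2
  let k := AlgebraicClosure K
  let f : K →+* k := algebraMap K k
  let cs := CoxeterMatrix.F₄.toCoxeterSystem
  have hW : Finite CoxeterMatrix.F₄.Group := H493.PGF4.finW
  have hN : NSys CoxeterMatrix.F₄ (TT chevF4 k) (nc hp k) := nsys_of_locFin hp cs hk 2
  obtain ⟨n, hn⟩ := exists_rp cs hN (TD.w cs tdB)
  obtain ⟨z, hz⟩ := H493.F4Lang.lang_ste m n
  have hpos := NN_pos m 1
  have hodd : ¬ 2 ∣ pe (2 ^ m) tdB.N := odd_NN (2 ^ m) 1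
  obtain ⟨N, hNe'⟩ := Int.eq_ofNat_of_zero_le hpos.le
  have hNk : (N : k) ≠ 0 := odd_cast hNe'
  have hNe : pe (2 ^ m) tdB.N = (N : ℤ) := hNe'
  have hN0 : 0 < N := by
    have h1 : (0 : ℤ) < (N : ℤ) := by rw [← hNe']; exact hpos
    exact_mod_cast h1
  have key : ∀ {c : Fin 4 → P} {U : Fin 4} {v : P} {κ E : ℕ}, OkO tdB c U v κ E →
      IsCoprime (N : ℤ) (Lc (2 ^ m) tdB.Q c (sr U)) := by
    intro c U v κ E hO
    have h1 := pe_of_peq (2 ^ m) hO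
    rw [pe_pa, pe_pm, pe_p4, pe_pmo] at h1
    rw [← hNe]
    refine coprime_pow (m := m) hodd (v := pe (2 ^ m) v) (k := κ) (E := E) ?_
    rw [Lc_apply, ← h1]
    simp only [Mh_sr, pe_pm]
  have h0 : Lc (2 ^ m) tdB.Q ![[1], [], [], []] (sr 1) = 0 := by
    have h1 := pe_of_peq (2 ^ m) okZ_B
    rw [pe_p4, pe] at h1
    rw [Lc_apply, ← h1]
    simp only [Mh_sr, pe_pm]
  have hcard := dvd_card_two hK f hk cs hn hz hNk (L := Lc (2 ^ m) tdB.Q ![[], [1], [], []])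
    (L' := Lc (2 ^ m) tdB.Q ![[1], [], [], []]) (U := sr 1) (U' := sr 2)
    (fun x => by rw [← hNe]; exact Lc_adapted cs okT_B.1 okT_B.2.1 _ _ x)
    (fun x => by rw [← hNe]; exact Lc_adapted cs okT_B.1 okT_B.2.1 _ _ x) (key okO_B) (key okO2_B)
    (by rw [h0]; exact dvd_zero _)
  obtain ⟨x, hx, hxs⟩ := exists_rep hK f hk cs hn hz (Y := Mh (2 ^ m) tdB.Y) (N := N) hN0 (fun x => by
    rw [Yw cs okT_B.1 ok3_B, hNe, natCast_zsmul]) (s := sS cs) (s' := sS1 cs) (sig_Tt cs _) (sig_w cs)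
    Nat.prime_three (j := 1) (sig_pow cs)
  refine ⟨tX chevF4 k (eF m f) z, x, fun a ha b hb => tX_comm hp (eF_injective f) z ha hb, ?_, hx, ?_, ?_⟩
  · rw [hNe']
    exact_mod_cast Int.natCast_dvd_natCast.2 hcard
  · intro y hy
    rw [mem_tX] at hy ⊢
    have h1 : z⁻¹ * eF m f (x * y * x⁻¹) * z = (z⁻¹ * eF m f x * z) * (z⁻¹ * eF m f y * z) * (z⁻¹ * eF m f x * z)⁻¹ := by
      rw [map_mul, map_mul, map_inv]; group
    rw [h1]
    exact (Subgroup.mem_normalizer_iff.1 hxs.mem_normalizer _).1 hy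
  · intro s hs hs3 y hy hys hyc
    have h1 : z⁻¹ * eF m f y * z = 1 := by
      refine sig_free cs hs hs3 _ hy ?_ ?_
      · have h1 : (z⁻¹ * eF m f y * z) ^ s = z⁻¹ * eF m f y ^ s * z := by
          have h2 := conj_pow (i := s) (a := z⁻¹) (b := eF m f y)
          rwa [inv_inv] at h2
        rw [h1, ← map_pow, hys, map_one, mul_one, inv_mul_cancel]
      · refine fix_of_rp hp cs hk 2 hxs hy ?_
        calc z⁻¹ * eF m f x * z * (z⁻¹ * eF m f y * z) = z⁻¹ * (eF m f (x * y)) * z := by rw [map_mul]; group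
          _ = z⁻¹ * (eF m f (y * x)) * z := by rw [hyc]
          _ = _ := by rw [map_mul]; group
    exact eq_one_of_conj f h1

end Fin

end Cfsg.Agent.H893.RM.TwT
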